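import Mathlib

/-!
# Abstract core for the Sylow `2`-subgroups of orthogonal groups

`R` is a subgroup of `G` of the shape `c(N) π(T)`, with `π(T)` inside the commutator subgroup of `G`.
Then `x ↦ x²` on `P = R ∩ G'` is controlled by the squares of `c(N) ∩ G'` and of `T`.
-/

set_option autoImplicit false

namespace Cfsg.Agent.Lib.OrthSyl.Core

open Equiv
open scoped commutatorElement

variable {G : Type*} [Group G]

theorem map_commutator_le {A B : Type*} [Group A] [Group B] (f : A →* B) :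
    (commutator A).map f ≤ commutator B := by
  rw [commutator_def, Subgroup.map_commutator]
  exact Subgroup.commutator_mono le_top le_top

theorem apply_mem_commutator {A B : Type*} [Group A] [Group B] (f : A →* B) {x : A}
    (hx : x ∈ commutator A) : f x ∈ commutator B :=
  map_commutator_le f ⟨x, hx, rfl⟩

/-- Squares of a product modulo the commutator subgroup. -/
theorem sq_mul_mem {P : Subgroup G} {b t : G} (hb : b ∈ P) (ht : t ∈ P)
    (hb2 : b ^ 2 ∈ ⁅P, P⁆) (ht2 : t ^ 2 ∈ ⁅P, P⁆) : (b * t) ^ 2 ∈ ⁅P, P⁆ := by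
  have h1 : (b * t) ^ 2 = b ^ 2 * ⁅b⁻¹, t⁆ * t ^ 2 := by
    simp only [pow_two, commutatorElement_def]
    group
  rw [h1]
  exact mul_mem (mul_mem hb2 (Subgroup.commutator_mem_commutator (inv_mem hb) ht)) ht2

/-- The reduction to squares of `c(N) ∩ G'` and of `T`. -/
theorem sq_mem_of_structure {N A : Type*} [Group N] [Group A] (R : Subgroup G) (c : N →* G)
    (π : A →* G) (T : Subgroup A)
    (hR : ∀ g ∈ R, ∃ n, ∃ t ∈ T, g = c n * π t) (hcR : ∀ n, c n ∈ R) (hπR : ∀ t ∈ T, π t ∈ R)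
    (hπΩ : ∀ t ∈ T, π t ∈ commutator G) (hT : ∀ t ∈ T, t ^ 2 ∈ ⁅T, T⁆)
    (hb : ∀ n, c n ∈ commutator G →
      (c n) ^ 2 ∈ ⁅R ⊓ commutator G, R ⊓ commutator G⁆) :
    ∀ x ∈ R ⊓ commutator G, x ^ 2 ∈ ⁅R ⊓ commutator G, R ⊓ commutator G⁆ := by
  rintro x ⟨hxR, hxΩ⟩
  obtain ⟨n, t, ht, rfl⟩ := hR x hxR
  have hcΩ : c n ∈ commutator G := by
    have := (commutator G).mul_mem hxΩ ((commutator G).inv_mem (hπΩ t ht))
    simpa using this
  refine sq_mul_mem (P := R ⊓ commutator G) ⟨hcR n, hcΩ⟩ ⟨hπR t ht, hπΩ t ht⟩ (hb n hcΩ) ?_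
  rw [← map_pow]
  have h1 : ⁅T.map π, T.map π⁆ ≤ ⁅R ⊓ commutator G, R ⊓ commutator G⁆ := by
    apply Subgroup.commutator_mono <;>
    · rintro _ ⟨s, hs, rfl⟩
      exact ⟨hπR s hs, hπΩ s hs⟩
  apply h1
  rw [← Subgroup.map_commutator]
  exact ⟨_, hT t ht, rfl⟩

/-- `⁅x̃, ỹ⁆` for the lifted elements in a product of three coordinates. -/
theorem three_coords {D E I : Type*} [Group D] [Group E] [DecidableEq I] {i j k : I} (hij : i ≠ j)
    (hik : i ≠ k) (hjk : j ≠ k) (x y : D) :
    ⁅((Pi.mulSingle i x * Pi.mulSingle j x : I → D), (1 : E)),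
      ((Pi.mulSingle i y * Pi.mulSingle k y : I → D), (1 : E))⁆ =
      ((Pi.mulSingle i ⁅x, y⁆ : I → D), (1 : E)) := by
  ext l
  · simp only [commutatorElement_def, Prod.fst_mul, Prod.fst_inv, Pi.mul_apply, Pi.inv_apply,
      Pi.mulSingle_apply]
    by_cases h1 : l = i
    · subst h1
      simp [hij, hik]
    · by_cases h2 : l = j
      · subst h2
        simp [h1, hjk]
      · by_cases h3 : l = k
        · subst h3
          simp [h1, h2]
        · simp [h1, h2, h3]
  · simp [commutatorElement_def]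

variable {D E I : Type*} [Group D] [Group E] [Fintype I] [DecidableEq I]

/-- The conjugation relation of a wreath-type structure. -/
def IsWreath (c : (I → D) × E →* G) (π : Perm I →* G) : Prop :=
  ∀ σ n, π σ * c n * (π σ)⁻¹ = c (fun i => n.1 (σ⁻¹ i), n.2)

theorem comp_symm_mulSingle (i j : I) (x : D) :
    (fun l => (Pi.mulSingle i x : I → D) ((Equiv.swap i j)⁻¹ l)) = Pi.mulSingle j x := by
  funext l
  simp only [Pi.mulSingle_apply, Equiv.Perm.inv_def, Equiv.symm_swap]
  by_cases h : l = j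
  · subst h
    simp
  · rw [if_neg h]
    rw [if_neg]
    intro h2
    apply h
    have := congrArg (Equiv.swap i l) h2
    by_cases h3 : l = i
    · subst h3
      simp at h2
      exact h2.symm ▸ rfl
    · rw [Equiv.swap_apply_of_ne_of_ne h3 h] at h2
      exact absurd h2 h3

/-- The element `x̃` lies in the commutator subgroup. -/
theorem lift_mem_commutator {c : (I → D) × E →* G} {π : Perm I →* G} (hw : IsWreath c π)
    (hπΩ : ∀ σ, π σ ∈ commutator G) (hD : ∀ x : D, x ^ 2 ∈ commutator D) (i j : I) (x : D) :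
    c ((Pi.mulSingle i x * Pi.mulSingle j x : I → D), (1 : E)) ∈ commutator G := by
  have h1 : ((Pi.mulSingle i x * Pi.mulSingle j x : I → D), (1 : E)) =
      ((Pi.mulSingle i x : I → D), (1 : E)) * ((Pi.mulSingle j x : I → D), (1 : E)) := by
    simp
  have h2 : c ((Pi.mulSingle j x : I → D), (1 : E)) =
      π (Equiv.swap i j) * c ((Pi.mulSingle i x : I → D), (1 : E)) * (π (Equiv.swap i j))⁻¹ := by
    rw [hw, comp_symm_mulSingle]
  have hsq : c ((Pi.mulSingle i (x ^ 2) : I → D), (1 : E)) ∈ commutator G := by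
    let f : D →* G := c.comp ((MonoidHom.inl _ _).comp (MonoidHom.mulSingle (fun _ => D) i))
    exact apply_mem_commutator f (hD x)
  rw [← Abelianization.ker_of, MonoidHom.mem_ker] at hsq ⊢
  rw [h1, map_mul, map_mul, h2, map_mul, map_mul, map_inv]
  have hπ : Abelianization.of (π (Equiv.swap i j)) = 1 := by
    rw [← MonoidHom.mem_ker, Abelianization.ker_of]
    exact hπΩ _
  rw [hπ, one_mul, inv_one, mul_one]
  have h3 : ((Pi.mulSingle i (x ^ 2) : I → D), (1 : E)) =
      ((Pi.mulSingle i x : I → D), (1 : E)) ^ 2 := by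
    ext l
    · simp [Pi.mulSingle_apply, pow_two]
      by_cases h : l = i
      · subst h
        simp
      · simp [h]
    · simp
  rw [h3, map_pow, map_pow, pow_two] at hsq
  exact hsq

/-- Squares of `c(N)` lie in the derived group of `P`, when there are three coordinates. -/
theorem sq_mem_of_three (P : Subgroup G) {c : (I → D) × E →* G} {π : Perm I →* G}
    (hw : IsWreath c π) (hcP : ∀ n, c n ∈ commutator G → c n ∈ P)
    (hπΩ : ∀ σ, π σ ∈ commutator G) (hD : ∀ x : D, x ^ 2 ∈ commutator D) (hE : ∀ e : E, e ^ 2 = 1)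
    (h3 : ∀ i : I, ∃ j k : I, i ≠ j ∧ i ≠ k ∧ j ≠ k) (n : (I → D) × E) : (c n) ^ 2 ∈ ⁅P, P⁆ := by
  classical
  have hsingle : ∀ (i : I) (w : D), w ∈ commutator D →
      c ((Pi.mulSingle i w : I → D), (1 : E)) ∈ ⁅P, P⁆ := by
    intro i w hw'
    let f : D →* G := c.comp ((MonoidHom.inl _ _).comp (MonoidHom.mulSingle (fun _ => D) i))
    have hf : ∀ u, f u = c ((Pi.mulSingle i u : I → D), (1 : E)) := fun u => rfl
    have hle : (commutator D).map f ≤ ⁅P, P⁆ := by
      rw [commutator_def, Subgroup.map_commutator, Subgroup.commutator_le]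
      rintro _ ⟨x, -, rfl⟩ _ ⟨y, -, rfl⟩
      obtain ⟨j, k, hij, hik, hjk⟩ := h3 i
      have h1 := three_coords (E := E) hij hik hjk x y
      have h2 : ⁅f x, f y⁆ = ⁅c ((Pi.mulSingle i x * Pi.mulSingle j x : I → D), (1 : E)),
          c ((Pi.mulSingle i y * Pi.mulSingle k y : I → D), (1 : E))⁆ := by
        rw [← map_commutatorElement, ← map_commutatorElement c, h1]
        rfl
      rw [h2]
      exact Subgroup.commutator_mem_commutator
        (hcP _ (lift_mem_commutator hw hπΩ hD i j x)) (hcP _ (lift_mem_commutator hw hπΩ hD i k y))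
    rw [← hf]
    exact hle ⟨w, hw', rfl⟩
  have hall : ∀ (f : I → D), (∀ i, f i ∈ commutator D) → c (f, (1 : E)) ∈ ⁅P, P⁆ := by
    intro f hf
    have key : ∀ s : Finset I, c ((fun i => if i ∈ s then f i else 1), (1 : E)) ∈ ⁅P, P⁆ := by
      intro s
      induction s using Finset.induction_on with
      | empty =>
        have : ((fun i => if i ∈ (∅ : Finset I) then f i else 1 : I → D), (1 : E)) = 1 := by
          ext l <;> simp
        rw [this, map_one]
        exact one_mem _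
      | insert a s ha ih =>
        have : ((fun i => if i ∈ insert a s then f i else 1 : I → D), (1 : E)) =
            ((Pi.mulSingle a (f a) : I → D), (1 : E)) *
              ((fun i => if i ∈ s then f i else 1 : I → D), (1 : E)) := by
          ext l
          · simp only [Prod.fst_mul, Pi.mul_apply, Pi.mulSingle_apply, Finset.mem_insert]
            by_cases h1 : l = a
            · subst h1
              simp [ha]
            · simp [h1]
          · simp
        rw [this, map_mul]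
        exact mul_mem (hsingle a _ (hf a)) ih
    simpa using key Finset.univ
  have h1 : (c n) ^ 2 = c (fun i => (n.1 i) ^ 2, (1 : E)) := by
    rw [← map_pow]
    congr 1
    ext l
    · simp
    · simp [hE]
  rw [h1]
  exact hall _ fun i => hD _

/-- Transfer to all Sylow subgroups of a normal subgroup. -/
theorem sq_of_sylow [Finite G] (R : Sylow 2 G) (Ω : Subgroup G) [Ω.Normal]
    (h : ∀ x ∈ (R : Subgroup G) ⊓ Ω, x ^ 2 ∈ ⁅(R : Subgroup G) ⊓ Ω, (R : Subgroup G) ⊓ Ω⁆)
    (P' : Sylow 2 Ω) (x : (P' : Subgroup Ω)) : x ^ 2 ∈ commutator (P' : Subgroup Ω) := by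
  classical
  set P'' : Subgroup G := (P' : Subgroup Ω).map Ω.subtype with hP''
  have hp : IsPGroup 2 P'' := P'.2.map _
  obtain ⟨S, hS⟩ := hp.exists_le_sylow
  obtain ⟨g, hg⟩ := MulAction.exists_smul_eq G S R
  let φ : G ≃* G := MulAut.conj g
  have hφ1 : P''.map φ.toMonoidHom ≤ (R : Subgroup G) ⊓ Ω := by
    rintro _ ⟨y, hy, rfl⟩
    refine ⟨?_, ?_⟩
    · rw [← hg, Sylow.coe_subgroup_smul]
      exact ⟨y, hS hy, rfl⟩
    · obtain ⟨w, -, rfl⟩ := hy
      exact Subgroup.Normal.conj_mem inferInstance _ w.2 g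
  have hcardP'' : Nat.card P'' = Nat.card (P' : Subgroup Ω) :=
    Nat.card_congr (Subgroup.equivMapOfInjective _ _ Ω.subtype_injective).toEquiv.symm
  have hcard : Nat.card ((R : Subgroup G) ⊓ Ω : Subgroup G) ≤ Nat.card (P''.map φ.toMonoidHom) := by
    have h1 : Nat.card (P''.map φ.toMonoidHom) = Nat.card P'' :=
      Nat.card_congr (Subgroup.equivMapOfInjective _ _ φ.injective).toEquiv.symm
    rw [h1, hcardP'']
    have h2 : IsPGroup 2 (((R : Subgroup G) ⊓ Ω).subgroupOf Ω) := by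
      have h3 : IsPGroup 2 ((R : Subgroup G) ⊓ Ω : Subgroup G) :=
        R.2.to_le inf_le_left
      exact h3.to_quotient |> fun _ => by
        intro a
        obtain ⟨k, hk⟩ := h3 ⟨(a : Ω), a.2⟩
        refine ⟨k, ?_⟩
        apply Subtype.ext
        apply Subtype.ext
        have := congrArg (fun z => ((z : ((R : Subgroup G) ⊓ Ω : Subgroup G)) : G)) hk
        simpa using this
    obtain ⟨Q, hQ⟩ := h2.exists_le_sylow
    have h4 : Nat.card (((R : Subgroup G) ⊓ Ω).subgroupOf Ω) =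
        Nat.card ((R : Subgroup G) ⊓ Ω : Subgroup G) :=
      Nat.card_congr (Subgroup.subgroupOfEquivOfLe inf_le_right).toEquiv
    rw [← h4]
    have h5 : Nat.card (Q : Subgroup Ω) = Nat.card (P' : Subgroup Ω) :=
      Sylow.card_eq_multiplicity Q |>.trans (Sylow.card_eq_multiplicity P').symm
    rw [← h5]
    exact Subgroup.card_le_of_le hQ
  have heq : P''.map φ.toMonoidHom = (R : Subgroup G) ⊓ Ω :=
    Subgroup.eq_of_le_of_card_ge hφ1 hcard
  -- transport
  have hx1 : ((x : Ω) : G) ∈ P'' := ⟨x, x.2, rfl⟩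
  have hx2 : φ ((x : Ω) : G) ∈ (R : Subgroup G) ⊓ Ω := hφ1 ⟨_, hx1, rfl⟩
  have hx3 := h _ hx2
  rw [← heq, ← Subgroup.map_commutator, ← map_pow] at hx3
  obtain ⟨y, hy, hyeq⟩ := hx3
  have hy2 : y = ((x : Ω) : G) ^ 2 := φ.injective hyeq
  rw [hy2] at hy
  -- back to `P'`
  let f : (P' : Subgroup Ω) →* G := Ω.subtype.comp (P' : Subgroup Ω).subtype
  have hf : Function.Injective f :=
    Ω.subtype_injective.comp (P' : Subgroup Ω).subtype_injective
  have hr : (⊤ : Subgroup (P' : Subgroup Ω)).map f = P'' := by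
    ext z
    constructor
    · rintro ⟨w, -, rfl⟩
      exact ⟨w, w.2, rfl⟩
    · rintro ⟨w, hw, rfl⟩
      exact ⟨⟨w, hw⟩, trivial, rfl⟩
  have hcomm : (commutator (P' : Subgroup Ω)).map f = ⁅P'', P''⁆ := by
    rw [commutator_def, Subgroup.map_commutator, hr]
  rw [← hcomm] at hy
  obtain ⟨w, hw, hweq⟩ := hy
  have hw2 : w = x ^ 2 := hf (by rw [hweq, map_pow]; rfl)
  rwa [← hw2]

section WreathSub

variable {c : (I → D) × E →* G} {π : Perm I →* G}

/-- The subgroup `c(N) π(T)`. -/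
def wreathSub (hw : IsWreath c π) (T : Subgroup (Perm I)) : Subgroup G where
  carrier := {g | ∃ n, ∃ t ∈ T, g = c n * π t}
  mul_mem' := by
    rintro _ _ ⟨n, t, ht, rfl⟩ ⟨n', t', ht', rfl⟩
    refine ⟨n * (fun i => n'.1 (t⁻¹ i), n'.2), t * t', T.mul_mem ht ht', ?_⟩
    rw [map_mul, map_mul, ← hw t n']
    group
  one_mem' := ⟨1, 1, T.one_mem, by simp⟩
  inv_mem' := by
    rintro _ ⟨n, t, ht, rfl⟩
    refine ⟨(fun i => n⁻¹.1 (t i), n⁻¹.2), t⁻¹, T.inv_mem ht, ?_⟩
    have h := hw t⁻¹ n⁻¹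
    simp only [inv_inv] at h
    rw [← h, map_inv, map_inv]
    group

theorem mem_wreathSub (hw : IsWreath c π) (T : Subgroup (Perm I)) {g : G} :
    g ∈ wreathSub hw T ↔ ∃ n, ∃ t ∈ T, g = c n * π t := Iff.rfl

theorem card_wreathSub [Finite D] [Finite E] [Finite I] (hw : IsWreath c π) (T : Subgroup (Perm I))
    (hinj : Function.Injective fun p : ((I → D) × E) × T => c p.1 * π p.2) :
    Nat.card (wreathSub hw T) = Nat.card D ^ Fintype.card I * Nat.card E * Nat.card T := by
  let f : ((I → D) × E) × T → wreathSub hw T := fun p => ⟨c p.1 * π p.2, p.1, p.2, p.2.2, rfl⟩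
  have hf : Function.Bijective f := by
    constructor
    · intro a b hab
      exact hinj (congrArg Subtype.val hab)
    · rintro ⟨g, n, t, ht, rfl⟩
      exact ⟨(n, ⟨t, ht⟩), rfl⟩
  rw [← Nat.card_congr (Equiv.ofBijective f hf), Nat.card_prod, Nat.card_prod, Nat.card_fun]
  simp

end WreathSub

theorem sq_mem_commutator_of_subtype {A : Type*} [Group A] {T : Subgroup A}
    (h : ∀ x : T, x ^ 2 ∈ commutator T) : ∀ t ∈ T, t ^ 2 ∈ ⁅T, T⁆ := by
  intro t ht
  rw [← Subgroup.map_subtype_commutator]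
  exact ⟨_, h ⟨t, ht⟩, rfl⟩

/-- **Main abstract theorem**, three coordinates. -/
theorem main_three [Finite G] [Finite D] [Finite E] {c : (I → D) × E →* G} {π : Perm I →* G}
    (hw : IsWreath c π) (T : Subgroup (Perm I)) (hTsq : ∀ x : T, x ^ 2 ∈ commutator T)
    (hinj : Function.Injective fun p : ((I → D) × E) × T => c p.1 * π p.2)
    (hcount : Nat.card D ^ Fintype.card I * Nat.card E * Nat.card T =
      2 ^ (Nat.card G).factorization 2)
    (hπΩ : ∀ σ, π σ ∈ commutator G) (hD : ∀ x : D, x ^ 2 ∈ commutator D) (hE : ∀ e : E, e ^ 2 = 1)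
    (h3 : ∀ i : I, ∃ j k : I, i ≠ j ∧ i ≠ k ∧ j ≠ k)
    (P' : Sylow 2 (commutator G)) (x : (P' : Subgroup (commutator G))) :
    x ^ 2 ∈ commutator (P' : Subgroup (commutator G)) := by
  haveI : Fact (Nat.Prime 2) := ⟨Nat.prime_two⟩
  let S : Sylow 2 G := Sylow.ofCard (wreathSub hw T) (by rw [card_wreathSub hw T hinj, hcount])
  have hS : (S : Subgroup G) = wreathSub hw T := rfl
  refine sq_of_sylow S (commutator G) ?_ P' x
  rw [hS]
  refine sq_mem_of_structure (wreathSub hw T) c π T (fun g hg => hg)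
    (fun n => ⟨n, 1, T.one_mem, by simp⟩) (fun t ht => ⟨1, t, ht, by simp⟩) (fun t _ => hπΩ t)
    (sq_mem_commutator_of_subtype hTsq) ?_
  intro n _
  exact sq_mem_of_three (wreathSub hw T ⊓ commutator G) hw
    (fun n hn => ⟨⟨n, 1, T.one_mem, by simp⟩, hn⟩) hπΩ hD hE h3 n

end Cfsg.Agent.Lib.OrthSyl.Core
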