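import Mathlib

/-!
# `2`-adic valuations of the orders of orthogonal groups
-/

set_option autoImplicit false

namespace Cfsg.Agent.Lib.OrthSyl.Count

open Finset

theorem odd_factor_int (x : ℤ) (hx : Odd x) (k : ℕ) :
    ∃ S : ℤ, Odd S ∧ x ^ (2 * k + 1) + 1 = (x + 1) * S := by
  induction k with
  | zero => exact ⟨1, odd_one, by ring⟩
  | succ k ih =>
    obtain ⟨S, hS, h⟩ := ih
    refine ⟨x ^ 2 * S - x + 1, ?_, ?_⟩
    · have h1 : Odd (x ^ 2 * S) := (hx.pow).mul hS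
      have h2 : Even (x ^ 2 * S - x) := h1.sub_odd hx
      exact h2.add_one
    · have h3 : x ^ (2 * (k + 1) + 1) = x ^ 2 * x ^ (2 * k + 1) := by ring
      rw [h3]
      linear_combination x ^ 2 * h

theorem val_mul_odd {a S : ℕ} (ha : a ≠ 0) (hS : Odd S) :
    padicValNat 2 (a * S) = padicValNat 2 a := by
  haveI : Fact (Nat.Prime 2) := ⟨Nat.prime_two⟩
  have hS0 : S ≠ 0 := by
    rintro rfl
    simp at hS
  rw [padicValNat.mul ha hS0, padicValNat.eq_zero_of_not_dvd (p := 2) (n := S) (by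
    intro h
    exact (Nat.not_even_iff_odd.2 hS) (even_iff_two_dvd.2 h)), add_zero]

theorem val_pow_odd {q : ℕ} (hq : Odd q) (k : ℕ) : padicValNat 2 (q ^ k) = 0 :=
  padicValNat.eq_zero_of_not_dvd (by
    intro h
    exact (Nat.not_even_iff_odd.2 hq.pow) (even_iff_two_dvd.2 h))

/-- `v₂(q^m + 1) = v₂(q + 1)` for odd `m`. -/
theorem val_odd_add {q : ℕ} (hq : Odd q) {m : ℕ} (hm : Odd m) :
    padicValNat 2 (q ^ m + 1) = padicValNat 2 (q + 1) := by
  obtain ⟨k, rfl⟩ := hm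
  obtain ⟨S, hS, h⟩ := odd_factor_int (q : ℤ) (by exact_mod_cast hq) k
  have hq1 : (0 : ℤ) < (q : ℤ) + 1 := by positivity
  have hS0 : 0 < S := by
    by_contra hne
    have h1 : ((q : ℤ) + 1) * S ≤ 0 := mul_nonpos_of_nonneg_of_nonpos hq1.le (not_lt.1 hne)
    have h2 : (0 : ℤ) < (q : ℤ) ^ (2 * k + 1) + 1 := by positivity
    linarith
  obtain ⟨S', rfl⟩ := Int.eq_ofNat_of_zero_le hS0.le
  have h3 : q ^ (2 * k + 1) + 1 = (q + 1) * S' := by exact_mod_cast h
  rw [h3]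
  exact val_mul_odd (by omega) (by exact_mod_cast hS)

/-- `v₂(q^m - 1) = v₂(q - 1)` for odd `m`. -/
theorem val_odd_sub {q : ℕ} (hq : Odd q) (h1 : 1 < q) {m : ℕ} (hm : Odd m) :
    padicValNat 2 (q ^ m - 1) = padicValNat 2 (q - 1) := by
  obtain ⟨k, rfl⟩ := hm
  obtain ⟨r, rfl⟩ : ∃ r, q = r + 1 := ⟨q - 1, by omega⟩
  obtain ⟨S, hS, h⟩ := odd_factor_int (-((r : ℤ) + 1)) (by
    have : Odd ((r : ℤ) + 1) := by exact_mod_cast hq
    exact this.neg) k
  have hr : 0 < r := by omega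
  have hpow : (-((r : ℤ) + 1)) ^ (2 * k + 1) = -((r : ℤ) + 1) ^ (2 * k + 1) :=
    Odd.neg_pow ⟨k, rfl⟩ _
  rw [hpow] at h
  have h4 : ((r : ℤ) + 1) ^ (2 * k + 1) - 1 = (r : ℤ) * S := by linear_combination -h
  have hS0 : 0 < S := by
    have h5 : (0 : ℤ) < ((r : ℤ) + 1) ^ (2 * k + 1) - 1 := by
      have h6 : (1 : ℤ) < ((r : ℤ) + 1) ^ (2 * k + 1) :=
        one_lt_pow₀ (by have : (0 : ℤ) < r := by exact_mod_cast hr
                        linarith) (by omega)
      linarith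
    rw [h4] at h5
    have hr' : (0 : ℤ) < r := by exact_mod_cast hr
    exact (pos_iff_pos_of_mul_pos h5).1 hr'
  obtain ⟨S', rfl⟩ := Int.eq_ofNat_of_zero_le hS0.le
  have h7 : (r + 1) ^ (2 * k + 1) - 1 = r * S' := by
    have h8 : 1 ≤ (r + 1) ^ (2 * k + 1) := Nat.one_le_pow _ _ (by omega)
    zify [h8]
    exact h4
  rw [h7, Nat.add_sub_cancel]
  exact val_mul_odd (by omega) (by exact_mod_cast hS)

theorem val_of_mod_four {x : ℕ} (h : x % 4 = 2) : padicValNat 2 x = 1 := by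
  haveI : Fact (Nat.Prime 2) := ⟨Nat.prime_two⟩
  obtain ⟨y, hy, rfl⟩ : ∃ y, y % 2 = 1 ∧ x = 2 * y := ⟨x / 2, by omega, by omega⟩
  rw [val_mul_odd (by norm_num) (Nat.odd_iff.2 hy)]
  exact padicValNat_self

theorem val_two_mul {k : ℕ} (hk : k ≠ 0) : padicValNat 2 (2 * k) = 1 + padicValNat 2 k := by
  haveI : Fact (Nat.Prime 2) := ⟨Nat.prime_two⟩
  rw [padicValNat.mul (by norm_num) hk, padicValNat_self]

/-- `v₂(q^m + 1) = 1` for even `m`. -/
theorem val_even_add {q : ℕ} (hq : Odd q) {m : ℕ} (hm : Even m) : padicValNat 2 (q ^ m + 1) = 1 := by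
  apply val_of_mod_four
  obtain ⟨k, rfl⟩ := hm
  have h1 : q % 2 = 1 := Nat.odd_iff.1 hq
  have h2 : (q * q) % 4 = 1 := by
    have h3 : q % 4 = 1 ∨ q % 4 = 3 := by omega
    rcases h3 with h3 | h3 <;> simp [Nat.mul_mod, h3]
  have h4 : (q ^ (k + k)) % 4 = 1 := by
    rw [← two_mul, pow_mul, pow_two, Nat.pow_mod, h2]
    simp
  omega

/-- `v₂(q^(2k) - 1) = v₂(q - 1) + v₂(q + 1) + v₂(k)`. -/
theorem val_even_sub {q : ℕ} (hq : Odd q) (h1 : 1 < q) {k : ℕ} (hk : k ≠ 0) :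
    padicValNat 2 (q ^ (2 * k) - 1) =
      padicValNat 2 (q - 1) + padicValNat 2 (q + 1) + padicValNat 2 k := by
  haveI : Fact (Nat.Prime 2) := ⟨Nat.prime_two⟩
  have h2 : 2 ∣ q - 1 := by
    have := Nat.odd_iff.1 hq
    omega
  have h3 := padicValNat.pow_two_sub_pow (x := q) (y := 1) h1 h2
    (by
      intro h
      exact (Nat.not_even_iff_odd.2 hq) (even_iff_two_dvd.2 h))
    (n := 2 * k) (by omega) (even_two_mul k)
  rw [one_pow, val_two_mul hk] at h3
  omega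

theorem sub_one_ne_zero {q : ℕ} (h1 : 1 < q) {k : ℕ} (hk : k ≠ 0) : q ^ k - 1 ≠ 0 := by
  have : 1 < q ^ k := one_lt_pow₀ h1 hk
  omega

theorem prod_ne_zero {q : ℕ} (h1 : 1 < q) (n : ℕ) :
    ∏ i ∈ range n, (q ^ (2 * (i + 1)) - 1) ≠ 0 := by
  rw [Finset.prod_ne_zero_iff]
  intro i _
  exact sub_one_ne_zero h1 (by omega)

/-- The valuation of the product. -/
theorem val_prod {q : ℕ} (hq : Odd q) (h1 : 1 < q) (n : ℕ) :
    padicValNat 2 (∏ i ∈ range n, (q ^ (2 * (i + 1)) - 1)) =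
      n * (padicValNat 2 (q - 1) + padicValNat 2 (q + 1)) + padicValNat 2 n.factorial := by
  haveI : Fact (Nat.Prime 2) := ⟨Nat.prime_two⟩
  induction n with
  | zero => simp
  | succ n ih =>
    rw [Finset.prod_range_succ, padicValNat.mul (prod_ne_zero h1 n) (sub_one_ne_zero h1 (by omega)), ih,
      Nat.factorial_succ, padicValNat.mul (by omega) (Nat.factorial_ne_zero n),
      val_even_sub hq h1 (by omega)]
    ring

theorem val_order_odd {q : ℕ} (hq : Odd q) (h1 : 1 < q) (m : ℕ) :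
    padicValNat 2 (2 * q ^ (m ^ 2) * ∏ i ∈ range m, (q ^ (2 * (i + 1)) - 1)) =
      1 + m * (padicValNat 2 (q - 1) + padicValNat 2 (q + 1)) + padicValNat 2 m.factorial := by
  haveI : Fact (Nat.Prime 2) := ⟨Nat.prime_two⟩
  have hq0 : q ^ (m ^ 2) ≠ 0 := by positivity
  rw [padicValNat.mul (by positivity) (prod_ne_zero h1 m), padicValNat.mul (by norm_num) hq0,
    padicValNat_self, val_pow_odd hq, val_prod hq h1]
  ring

theorem val_order_aux {q : ℕ} (hq : Odd q) (h1 : 1 < q) (e k x : ℕ) (hx : x ≠ 0) :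
    padicValNat 2 (2 * q ^ e * x * ∏ i ∈ range k, (q ^ (2 * (i + 1)) - 1)) =
      1 + padicValNat 2 x + k * (padicValNat 2 (q - 1) + padicValNat 2 (q + 1)) +
        padicValNat 2 k.factorial := by
  haveI : Fact (Nat.Prime 2) := ⟨Nat.prime_two⟩
  have hq0 : q ^ e ≠ 0 := by positivity
  rw [padicValNat.mul (by positivity) (prod_ne_zero h1 k), padicValNat.mul (by positivity) hx,
    padicValNat.mul (by norm_num) hq0, padicValNat_self, val_pow_odd hq, val_prod hq h1]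
  ring

/-- Valuation of a factorial step for odd numbers. -/
theorem val_factorial_odd {k : ℕ} (hk : Even k) :
    padicValNat 2 (k + 1).factorial = padicValNat 2 k.factorial := by
  haveI : Fact (Nat.Prime 2) := ⟨Nat.prime_two⟩
  rw [Nat.factorial_succ, padicValNat.mul (by omega) (Nat.factorial_ne_zero k),
    padicValNat.eq_zero_of_not_dvd (p := 2) (n := k + 1) (by
      intro h
      have := even_iff_two_dvd.2 h
      exact (Nat.not_even_iff_odd.2 hk.add_one) this), zero_add]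

theorem val_factorial_succ (k : ℕ) :
    padicValNat 2 (k + 1).factorial = padicValNat 2 (k + 1) + padicValNat 2 k.factorial := by
  haveI : Fact (Nat.Prime 2) := ⟨Nat.prime_two⟩
  rw [Nat.factorial_succ, padicValNat.mul (by omega) (Nat.factorial_ne_zero k)]

/-- Valuations of `q ± 1`, if `q ≡ 1 mod 4`. -/
theorem val_add_of_one {q : ℕ} (h : q % 4 = 1) : padicValNat 2 (q + 1) = 1 :=
  val_of_mod_four (by omega)

/-- Valuations of `q ± 1`, if `q ≡ 3 mod 4`. -/
theorem val_sub_of_three {q : ℕ} (h : q % 4 = 3) : padicValNat 2 (q - 1) = 1 :=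
  val_of_mod_four (by omega)

end Cfsg.Agent.Lib.OrthSyl.Count
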