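import Mathlib
import Cfsg.Agent.Lib.OrthSyl.Core

/-!
# Abstract theorem for a wreath-type Sylow `2`-subgroup of `G`

If `c(N) π(T)` has order the `2`-part of `|G|` and the squares of `D` and of `T` are in their derived
subgroups, then every Sylow `2`-subgroup `P` of `G` has `x² ∈ P'`.
-/

set_option autoImplicit false

namespace Cfsg.Agent.Lib.OrthSyl.Whole

open Equiv Cfsg.Agent.Lib.OrthSyl.Core
open scoped commutatorElement

variable {G : Type*} [Group G]

/-- Transfer to all Sylow subgroups. -/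
theorem sq_of_sylow_whole [Finite G] (R P : Sylow 2 G)
    (h : ∀ x ∈ (R : Subgroup G), x ^ 2 ∈ ⁅(R : Subgroup G), (R : Subgroup G)⁆)
    (x : (P : Subgroup G)) : x ^ 2 ∈ commutator (P : Subgroup G) := by
  classical
  obtain ⟨g, hg⟩ := MulAction.exists_smul_eq G P R
  let φ : G ≃* G := MulAut.conj g
  have hmap : (P : Subgroup G).map φ.toMonoidHom = R := by
    rw [← hg, Sylow.coe_subgroup_smul]
    rfl
  have hx2 : φ (x : G) ∈ (R : Subgroup G) := by
    rw [← hmap]
    exact ⟨x, x.2, rfl⟩
  have hx3 := h _ hx2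
  rw [← hmap, ← Subgroup.map_commutator, ← map_pow] at hx3
  obtain ⟨y, hy, hyeq⟩ := hx3
  have hy2 : y = (x : G) ^ 2 := φ.injective hyeq
  rw [hy2, ← Subgroup.map_subtype_commutator] at hy
  obtain ⟨w, hw, hweq⟩ := hy
  have hw2 : w = x ^ 2 := Subtype.ext hweq
  rwa [← hw2]

variable {D E I : Type*} [Group D] [Group E] [Fintype I] [DecidableEq I]

/-- Squares of `c(N)`, in a group with a wreath-type structure. -/
theorem sq_base_mem (R : Subgroup G) {c : (I → D) × E →* G} (hcR : ∀ n, c n ∈ R)
    (hD : ∀ x : D, x ^ 2 ∈ commutator D) (hE : ∀ e : E, e ^ 2 = 1) (n : (I → D) × E) :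
    (c n) ^ 2 ∈ ⁅R, R⁆ := by
  classical
  have hsingle : ∀ (i : I) (w : D), w ∈ commutator D →
      c ((Pi.mulSingle i w : I → D), (1 : E)) ∈ ⁅R, R⁆ := by
    intro i w hw'
    let f : D →* G := c.comp ((MonoidHom.inl _ _).comp (MonoidHom.mulSingle (fun _ => D) i))
    have hf : ∀ u, f u = c ((Pi.mulSingle i u : I → D), (1 : E)) := fun u => rfl
    have hle : (commutator D).map f ≤ ⁅R, R⁆ := by
      rw [commutator_def, Subgroup.map_commutator, Subgroup.commutator_le]
      rintro _ ⟨x, -, rfl⟩ _ ⟨y, -, rfl⟩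
      exact Subgroup.commutator_mem_commutator (hcR _) (hcR _)
    rw [← hf]
    exact hle ⟨w, hw', rfl⟩
  have hall : ∀ (f : I → D), (∀ i, f i ∈ commutator D) → c (f, (1 : E)) ∈ ⁅R, R⁆ := by
    intro f hf
    have key : ∀ s : Finset I, c ((fun i => if i ∈ s then f i else 1), (1 : E)) ∈ ⁅R, R⁆ := by
      intro s
      induction s using Finset.induction_on with
      | empty =>
        have : ((fun i => if i ∈ (∅ : Finset I) then f i else 1 : I → D), (1 : E)) = 1 := by
          ext l <;> simp
        rw [this, map_one]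
        exact one_mem _
      | insert a s ha ih =>
        have : ((fun i => if i ∈ insert a s then f i else 1 : I → D), (1 : E)) =
            ((Pi.mulSingle a (f a) : I → D), (1 : E)) *
              ((fun i => if i ∈ s then f i else 1 : I → D), (1 : E)) := by
          ext l
          · simp only [Prod.fst_mul, Pi.mul_apply, Pi.mulSingle_apply, Finset.mem_insert]
            by_cases h1 : l = a
            · subst h1
              simp [ha]
            · simp [h1]
          · simp
        rw [this, map_mul]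
        exact mul_mem (hsingle a _ (hf a)) ih
    simpa using key Finset.univ
  have h1 : (c n) ^ 2 = c (fun i => (n.1 i) ^ 2, (1 : E)) := by
    rw [← map_pow]
    congr 1
    ext l
    · simp
    · simp [hE]
  rw [h1]
  exact hall _ fun i => hD _

/-- **Main abstract theorem** for a Sylow subgroup of `G`. -/
theorem main_whole [Finite G] [Finite D] [Finite E] {c : (I → D) × E →* G} {π : Perm I →* G}
    (hw : IsWreath c π) (T : Subgroup (Perm I)) (hTsq : ∀ x : T, x ^ 2 ∈ commutator T)
    (hinj : Function.Injective fun p : ((I → D) × E) × T => c p.1 * π p.2)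
    (hcount : Nat.card D ^ Fintype.card I * Nat.card E * Nat.card T =
      2 ^ (Nat.card G).factorization 2)
    (hD : ∀ x : D, x ^ 2 ∈ commutator D) (hE : ∀ e : E, e ^ 2 = 1)
    (P : Sylow 2 G) (x : (P : Subgroup G)) : x ^ 2 ∈ commutator (P : Subgroup G) := by
  haveI : Fact (Nat.Prime 2) := ⟨Nat.prime_two⟩
  let S : Sylow 2 G := Sylow.ofCard (wreathSub hw T) (by rw [card_wreathSub hw T hinj, hcount])
  have hS : (S : Subgroup G) = wreathSub hw T := rfl
  refine sq_of_sylow_whole S P ?_ x
  rw [hS]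
  rintro _ ⟨n, t, ht, rfl⟩
  refine sq_mul_mem (P := wreathSub hw T) ⟨n, 1, T.one_mem, by simp⟩ ⟨1, t, ht, by simp⟩
    (sq_base_mem (wreathSub hw T) (c := c) (fun n => ⟨n, 1, T.one_mem, by simp⟩) hD hE n) ?_
  rw [← map_pow]
  have h1 : ⁅T.map π, T.map π⁆ ≤ ⁅wreathSub hw T, wreathSub hw T⁆ := by
    apply Subgroup.commutator_mono <;>
    · rintro _ ⟨s, hs, rfl⟩
      exact ⟨1, s, hs, by simp⟩
  apply h1
  rw [← Subgroup.map_commutator]
  exact ⟨_, sq_mem_commutator_of_subtype hTsq t ht, rfl⟩

end Cfsg.Agent.Lib.OrthSyl.Whole
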